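/- Lower bounds for the class number from the class equation, small primes (for S4266). -/
import Mathlib

namespace H79.ClassCount

/-- `srch n lo a b acc P`: every nondecreasing list of length `n` with entries `≥ lo` whose
reciprocals sum to `a / b`, put behind `acc.reverse`, satisfies `P`. -/
def srch : ℕ → ℕ → ℕ → ℕ → List ℕ → (List ℕ → Bool) → Bool
  | 0, _, a, _, acc, P => if a = 0 then P acc.reverse else true
  | n + 1, lo, a, b, acc, P =>
      if a = 0 then true else
        (List.range ((n + 1) * b / a + 1 - max lo (b / a))).all fun i =>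
          let c := max lo (b / a) + i
          if b ≤ a * c then srch n c (a * c - b) (b * c) (c :: acc) P else true

theorem srch_sound : ∀ (n lo a b : ℕ) (acc : List ℕ) (P : List ℕ → Bool),
    srch n lo a b acc P = true → 1 ≤ lo → 0 < b → ∀ l : List ℕ, l.length = n →
    l.Pairwise (· ≤ ·) → (∀ c ∈ l, lo ≤ c) →
    (l.map fun c : ℕ => (1 : ℚ) / c).sum = a / b → P (acc.reverse ++ l) = true := by
  intro n
  induction n with
  | zero =>
    intro lo a b acc P h hlo hb l hl hs hge hsum
    obtain rfl : l = [] := List.length_eq_zero_iff.1 hl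
    have ha : a = 0 := by
      have : (a : ℚ) / b = 0 := by simpa using hsum.symm
      rcases div_eq_zero_iff.1 this with h1 | h1
      · exact_mod_cast h1
      · exfalso; have : b = 0 := by exact_mod_cast h1
        omega
    simpa [srch, ha] using h
  | succ n ih =>
    intro lo a b acc P h hlo hb l hl hs hge hsum
    rcases l with _ | ⟨c, t⟩
    · simp at hl
    have htl : t.length = n := by simpa using hl
    rw [List.pairwise_cons] at hs
    have hc : lo ≤ c := hge c (by simp)
    have hc0 : (0 : ℚ) < c := by exact_mod_cast (by omega : 0 < c)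
    have hbq : (0 : ℚ) < b := by exact_mod_cast hb
    simp only [List.map_cons, List.sum_cons] at hsum
    have ht0 : (0 : ℚ) ≤ (t.map fun c : ℕ => (1 : ℚ) / c).sum := by
      apply List.sum_nonneg
      intro x hx
      obtain ⟨d, -, rfl⟩ := List.mem_map.1 hx
      positivity
    have ht1 : (t.map fun c : ℕ => (1 : ℚ) / c).sum ≤ n * (1 / (c : ℚ)) := by
      have := List.sum_le_card_nsmul (t.map fun c : ℕ => (1 : ℚ) / c) (1 / (c : ℚ)) (by
        intro x hx
        obtain ⟨d, hd, rfl⟩ := List.mem_map.1 hx
        have hcd : (c : ℚ) ≤ d := by exact_mod_cast hs.1 d hd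
        exact one_div_le_one_div_of_le hc0 hcd)
      simpa [htl] using this
    have hlow : b ≤ a * c := by
      have h1 : 1 / (c : ℚ) ≤ a / b := by linarith
      rw [div_le_div_iff₀ hc0 hbq] at h1
      exact_mod_cast (by simpa using h1 : (b : ℚ) ≤ a * c)
    have hupp : a * c ≤ (n + 1) * b := by
      have h1 : (a : ℚ) / b ≤ ((n : ℚ) + 1) / c := by
        rw [add_div, div_eq_mul_one_div (n : ℚ)]; linarith
      rw [div_le_div_iff₀ hbq hc0] at h1
      exact_mod_cast h1
    have ha : a ≠ 0 := by
      rintro rfl
      simp at hlow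
      omega
    have hle : max lo (b / a) ≤ c :=
      max_le hc (Nat.div_le_of_le_mul hlow)
    have hub : c ≤ (n + 1) * b / a :=
      (Nat.le_div_iff_mul_le (by omega)).2 (by rw [mul_comm]; exact hupp)
    rw [srch, if_neg ha, List.all_eq_true] at h
    have h2 := h (c - max lo (b / a)) (List.mem_range.2 (by omega))
    simp only [Nat.add_sub_cancel' hle, if_pos hlow] at h2
    have h3 := ih c (a * c - b) (b * c) (c :: acc) P h2 (by omega)
      (Nat.mul_pos hb (by omega)) t htl hs.2 hs.1 (by
        rw [Nat.cast_sub hlow, Nat.cast_mul, Nat.cast_mul]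
        have : (t.map fun c : ℕ => (1 : ℚ) / c).sum = a / b - 1 / c := by linarith
        rw [this]
        field_simp)
    simpa using h3

/-- Some entry equals `p` whenever all entries divide an entry divisible by `p ^ 2`. -/
def pOk (p : ℕ) (l : List ℕ) : Bool :=
  l.all fun N => N % (p * p) != 0 || !(l.all fun c => N % c == 0) || l.contains p

/-- The search over all lengths `≤ K`. -/
def srchUpTo (p K : ℕ) : Bool :=
  (List.range (K + 1)).all fun n => srch n 1 1 1 [] (pOk p)

theorem srchUpTo_two : srchUpTo 2 1 = true := by decide +kernel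
theorem srchUpTo_three : srchUpTo 3 2 = true := by decide +kernel
theorem srchUpTo_five : srchUpTo 5 4 = true := by decide +kernel
theorem srchUpTo_seven : srchUpTo 7 5 = true := by decide +kernel

theorem mem_of_srchUpTo {p K : ℕ} (h : srchUpTo p K = true) (l : List ℕ) (hl : l.length ≤ K)
    (hpos : ∀ c ∈ l, 1 ≤ c) (hsum : (l.map fun c : ℕ => (1 : ℚ) / c).sum = 1)
    {N : ℕ} (hN : N ∈ l) (hdvd : ∀ c ∈ l, c ∣ N) (hp : p * p ∣ N) : p ∈ l := by
  classical
  rw [srchUpTo, List.all_eq_true] at h
  have hperm : (l.mergeSort (· ≤ ·)).Perm l := List.mergeSort_perm _ _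
  have hsort : (l.mergeSort (· ≤ ·)).Pairwise (· ≤ ·) := l.pairwise_mergeSort' (· ≤ ·)
  have hlen : (l.mergeSort (· ≤ ·)).length = l.length := hperm.length_eq
  have h2 := srch_sound _ 1 1 1 [] (pOk p) (h l.length (List.mem_range.2 (by omega)))
    le_rfl one_pos _ hlen hsort (fun c hc => hpos c (hperm.mem_iff.1 hc))
    (by rw [(hperm.map _).sum_eq, hsum]; simp)
  rw [List.reverse_nil, List.nil_append, pOk, List.all_eq_true] at h2
  have h3 := h2 N (hperm.mem_iff.2 hN)
  rw [Bool.or_eq_true, Bool.or_eq_true] at h3
  rcases h3 with (h3 | h3) | h3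
  · exfalso
    simp [Nat.mod_eq_zero_of_dvd, hp] at h3
  · exfalso
    rw [Bool.not_eq_true', ← Bool.not_eq_true, List.all_eq_true] at h3
    exact h3 fun c hc => by
      simp [Nat.mod_eq_zero_of_dvd, hdvd c (hperm.mem_iff.1 hc)]
  · exact hperm.mem_iff.1 (List.contains_iff_mem.1 h3)

section Group

variable {G : Type*} [Group G]

theorem card_carrier_mul_card_centralizer (x : G) :
    Nat.card (ConjClasses.mk x).carrier * Nat.card (Subgroup.centralizer ({x} : Set G)) =
      Nat.card G := by
  rw [← ConjAct.orbit_eq_carrier_conjClasses,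
    Subgroup.nat_card_centralizer_nat_card_stabilizer]
  have h := Subgroup.index_mul_card (MulAction.stabilizer (ConjAct G) x)
  rw [MulAction.index_stabilizer] at h
  rw [Nat.card_coe_set_eq, h]
  rfl

theorem card_centralizer_ne_prime [Finite G] {p : ℕ} (hp : p.Prime) (h : p ^ 2 ∣ Nat.card G)
    (x : G) : Nat.card (Subgroup.centralizer ({x} : Set G)) ≠ p := by
  intro hC
  have := Fact.mk hp
  have hx : x ≠ 1 := by
    rintro rfl
    have htop : Subgroup.centralizer ({(1 : G)} : Set G) = ⊤ := by
      ext g; simp [Subgroup.mem_centralizer_singleton_iff]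
    rw [htop, Subgroup.card_top] at hC
    have := Nat.le_of_dvd Nat.card_pos h
    rw [hC, pow_two] at this
    have := hp.two_le
    nlinarith
  have hxC : x ∈ Subgroup.centralizer ({x} : Set G) := by
    simp [Subgroup.mem_centralizer_singleton_iff]
  have hord : orderOf x = p :=
    (hp.eq_one_or_self_of_dvd _ (hC ▸ (Subgroup.centralizer ({x} : Set G)).orderOf_dvd_natCard hxC)
      ).resolve_left (by simpa [orderOf_eq_one_iff] using hx)
  obtain ⟨K, hK, hle⟩ := Sylow.exists_subgroup_card_pow_succ (p := p) (n := 1)
    (H := Subgroup.zpowers x) (by simpa using h) (by rw [Nat.card_zpowers, hord, pow_one])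
  have hab := IsPGroup.isMulCommutative_of_card_eq_prime_sq (p := p) (G := ↥K) (by simpa using hK)
  have hKC : K ≤ Subgroup.centralizer ({x} : Set G) := by
    intro g hg
    rw [Subgroup.mem_centralizer_singleton_iff]
    exact congrArg Subtype.val (hab.is_comm.comm ⟨g, hg⟩ ⟨x, hle (Subgroup.mem_zpowers x)⟩)
  have h1 := Subgroup.card_le_of_le hKC
  rw [hK, hC] at h1
  have := hp.two_le
  norm_num at h1
  nlinarith

theorem le_card_conjClasses_of_srch [Finite G] {p K : ℕ} (hp : p.Prime)
    (hs : srchUpTo p K = true) (h : p ^ 2 ∣ Nat.card G) : K < Nat.card (ConjClasses G) := by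
  classical
  by_contra hK
  have : Fintype (ConjClasses G) := Fintype.ofFinite _
  let cc : ConjClasses G → ℕ := fun C => Nat.card (Subgroup.centralizer ({C.out} : Set G))
  let l : List ℕ := (Finset.univ : Finset (ConjClasses G)).toList.map cc
  have hmk : ∀ C : ConjClasses G, ConjClasses.mk C.out = C := fun C => Quotient.out_eq C
  have hlen : l.length ≤ K := by
    simp only [l, List.length_map, Finset.length_toList, Finset.card_univ]
    rw [← Nat.card_eq_fintype_card]; omega
  have hG : (Nat.card G : ℚ) ≠ 0 := by exact_mod_cast Nat.card_pos.ne'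
  have hsum : (l.map fun c : ℕ => (1 : ℚ) / c).sum = 1 := by
    rw [List.map_map, Finset.sum_map_toList]
    have h1 : ∀ C : ConjClasses G,
        (1 : ℚ) / (cc C : ℕ) = (Nat.card C.carrier : ℚ) / Nat.card G := by
      intro C
      have h2 := card_carrier_mul_card_centralizer C.out
      rw [hmk C] at h2
      have h3 : (cc C : ℚ) ≠ 0 := by
        have : 0 < cc C := Nat.card_pos
        exact_mod_cast this.ne'
      rw [div_eq_div_iff h3 hG, one_mul]
      exact_mod_cast h2.symm
    calc (∑ C : ConjClasses G, (1 : ℚ) / (cc C : ℕ))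
        = ∑ C : ConjClasses G, (Nat.card C.carrier : ℚ) / Nat.card G :=
          Finset.sum_congr rfl fun C _ => h1 C
      _ = 1 := by
          rw [← Finset.sum_div, div_eq_one_iff_eq hG]
          exact_mod_cast (by
            rw [← Group.sum_card_conj_classes_eq_card G, finsum_eq_sum_of_fintype]
            simp [Nat.card_coe_set_eq] :
            (∑ C : ConjClasses G, Nat.card C.carrier) = Nat.card G)
  have hN : Nat.card G ∈ l := by
    refine List.mem_map.2 ⟨1, by simp, ?_⟩
    have h1 : (1 : ConjClasses G).out = 1 :=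
      isConj_one_left.1 (ConjClasses.mk_eq_mk_iff_isConj.1 (hmk 1))
    simp only [cc, h1]
    have htop : Subgroup.centralizer ({(1 : G)} : Set G) = ⊤ := by
      ext g; simp [Subgroup.mem_centralizer_singleton_iff]
    rw [htop, Subgroup.card_top]
  have hmem := mem_of_srchUpTo hs l hlen
    (fun c hc => by obtain ⟨C, -, rfl⟩ := List.mem_map.1 hc; exact Nat.card_pos) hsum hN
    (fun c hc => by
      obtain ⟨C, -, rfl⟩ := List.mem_map.1 hc
      exact Subgroup.card_subgroup_dvd_card _)
    (by rwa [← pow_two])
  obtain ⟨C, -, hC⟩ := List.mem_map.1 hmem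
  exact card_centralizer_ne_prime hp h _ hC

/-- If `p ≤ 7` is a prime whose square divides `|G|`, then `k(G) ≥ 49 p / 60`. -/
theorem classes_ge_small [Finite G] {p : ℕ} (hp : p.Prime) (h7 : p ≤ 7)
    (h : p ^ 2 ∣ Nat.card G) : 49 * p ≤ 60 * Nat.card (ConjClasses G) := by
  have h2 := hp.two_le
  interval_cases p
  · have := le_card_conjClasses_of_srch hp srchUpTo_two h; omega
  · have := le_card_conjClasses_of_srch hp srchUpTo_three h; omega
  · exact absurd hp (by norm_num)
  · have := le_card_conjClasses_of_srch hp srchUpTo_five h; omega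
  · exact absurd hp (by norm_num)
  · have := le_card_conjClasses_of_srch hp srchUpTo_seven h; omega

end Group

end H79.ClassCount
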