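/- Reduction of the class-number bound for solvable groups (S4266) to irreducible linear groups. -/
import Cfsg.Agent.H27.Classes.Defs
import Cfsg.Agent.H27.Classes.Prob
import Cfsg.Agent.H79.ClassCount.Small

set_option autoImplicit false

namespace H79.ClassCount

open scoped commutatorElement

universe u

variable {G : Type u} [Group G]

/-- Inside a nontrivial normal subgroup of a solvable group there is an elementary abelian
minimal normal subgroup. -/
theorem exists_minimal_normal [Finite G] (hsolv : Group.IsSolvable G) (C : Subgroup G) [C.Normal]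
    (hC : C ≠ ⊥) : ∃ (N : Subgroup G) (r : ℕ), N.Normal ∧ N ≤ C ∧ N ≠ ⊥ ∧ r.Prime ∧
      (∀ K : Subgroup G, K.Normal → K ≤ N → K = ⊥ ∨ K = N) ∧
      (∀ x ∈ N, ∀ y ∈ N, x * y = y * x) ∧ (∀ x ∈ N, x ^ r = 1) ∧
      ∃ n, 1 ≤ n ∧ Nat.card N = r ^ n := by
  classical
  have hex : ∃ m : ℕ, ∃ N : Subgroup G, N.Normal ∧ N ≤ C ∧ N ≠ ⊥ ∧ Nat.card N = m :=
    ⟨_, C, inferInstance, le_rfl, hC, rfl⟩
  obtain ⟨N, hN, hNC, hN1, hm⟩ := Nat.find_spec hex
  have hmin : ∀ K : Subgroup G, K.Normal → K ≤ N → K = ⊥ ∨ K = N := by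
    intro K hK hKN
    by_cases h : K = ⊥
    · exact Or.inl h
    right
    refine Subgroup.eq_of_le_of_card_ge hKN ?_
    rw [hm]
    exact Nat.find_min' hex ⟨K, hK, hKN.trans hNC, h, rfl⟩
  have hab : ∀ x ∈ N, ∀ y ∈ N, x * y = y * x := by
    rcases hmin ⁅N, N⁆ inferInstance (Subgroup.commutator_le_left N N) with h | h
    · intro x hx y hy
      have := h ▸ Subgroup.commutator_mem_commutator hx hy
      rw [Subgroup.mem_bot] at this
      exact commutatorElement_eq_one_iff_mul_comm.1 this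
    · exfalso
      obtain ⟨n, hn⟩ := hsolv.solvable
      refine hN1 (le_bot_iff.1 (hn ▸ ?_))
      clear hn
      induction n with
      | zero => exact le_top
      | succ i ih => rw [derivedSeries_succ, ← h]; exact Subgroup.commutator_mono ih ih
  obtain ⟨r, hr, hrdvd⟩ := Nat.exists_prime_and_dvd (n := Nat.card N)
    (fun h => hN1 (Subgroup.eq_bot_of_card_eq N h))
  let K : Subgroup G :=
    { carrier := {x | x ∈ N ∧ x ^ r = 1}
      mul_mem' := fun {a b} ha hb =>
        ⟨N.mul_mem ha.1 hb.1, by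
          rw [Commute.mul_pow (hab a ha.1 b hb.1), ha.2, hb.2, one_mul]⟩
      one_mem' := ⟨N.one_mem, one_pow r⟩
      inv_mem' := fun {a} ha => ⟨N.inv_mem ha.1, by rw [inv_pow, ha.2, inv_one]⟩ }
  have hK : K.Normal := ⟨fun x hx g => ⟨hN.conj_mem x hx.1 g, by
    rw [← MulAut.conj_apply, ← map_pow, hx.2, map_one]⟩⟩
  have := Fact.mk hr
  obtain ⟨x, hx⟩ := exists_prime_orderOf_dvd_card' (G := N) r hrdvd
  have hxK : (x : G) ∈ K := ⟨x.2, by
    rw [← Subgroup.coe_pow, ← hx, pow_orderOf_eq_one, Subgroup.coe_one]⟩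
  have hKN : K = N := (hmin K hK fun y hy => hy.1).resolve_left fun h => by
    rw [h, Subgroup.mem_bot] at hxK
    rw [show x = 1 from Subtype.ext hxK, orderOf_one] at hx
    exact hr.one_lt.ne' hx.symm
  have hexp : ∀ y ∈ N, y ^ r = 1 := fun y hy => (show y ∈ K by rw [hKN]; exact hy).2
  have hpg : IsPGroup r N := fun y => ⟨1, Subtype.ext (by simpa using hexp y y.2)⟩
  obtain ⟨n, hn⟩ := IsPGroup.iff_card.1 hpg
  refine ⟨N, r, hN, hNC, hN1, hr, hmin, hab, hexp, n, ?_, hn⟩
  rcases Nat.eq_zero_or_pos n with h | h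
  · exact absurd (Subgroup.eq_bot_of_card_eq N (by rw [hn, h, pow_zero])) hN1
  · exact h

theorem card_conjClasses_le_of_surjective {H : Type*} [Group H] [Finite G] (f : G →* H)
    (hf : Function.Surjective f) : Nat.card (ConjClasses H) ≤ Nat.card (ConjClasses G) :=
  Nat.card_le_card_of_surjective _ (ConjClasses.map_surjective (f := f) hf)

theorem card_conjClasses_congr {H : Type*} [Group H] [Finite G] (e : G ≃* H) :
    Nat.card (ConjClasses H) = Nat.card (ConjClasses G) :=
  have : Finite H := Finite.of_equiv _ e.toEquiv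
  le_antisymm (card_conjClasses_le_of_surjective e.toMonoidHom e.surjective)
    (card_conjClasses_le_of_surjective e.symm.toMonoidHom e.symm.surjective)

/-- A normal subgroup of order `p ^ 2` through a normal subgroup of order `p`. -/
theorem bound_of_sq [Finite G] {p : ℕ} (hp : p.Prime) (h3 : ¬ p ^ 3 ∣ Nat.card G)
    (h2 : 2 ≤ p) (N M : Subgroup G) [hN : N.Normal] [hM : M.Normal] (hNM : N ≤ M)
    (hNcard : Nat.card N = p) (hMcard : Nat.card M = p ^ 2) :
    49 * p ≤ 60 * Nat.card (ConjClasses G) := by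
  have := Fact.mk hp
  have hMab := IsPGroup.isMulCommutative_of_card_eq_prime_sq (p := p) (G := ↥M) hMcard
  have hMC : M ≤ Subgroup.centralizer (M : Set G) := fun x hx => by
    rw [Subgroup.mem_centralizer_iff]
    exact fun y hy => congrArg Subtype.val (hMab.is_comm.comm ⟨y, hy⟩ ⟨x, hx⟩)
  set C := Subgroup.centralizer (M : Set G) with hCdef
  have hCn : C.Normal := inferInstance
  have hcomm : ∀ c ∈ C, ∀ y ∈ M, c * y = y * c := fun c hc y hy =>
    ((Subgroup.mem_centralizer_iff.1 hc) y hy).symm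
  have hpC : ¬ p ∣ C.index := fun h => h3 <| by
    rw [← C.card_mul_index, pow_succ]
    exact Nat.mul_dvd_mul (hMcard ▸ Subgroup.card_dvd_of_le hMC) h
  -- commutators centralise `N`
  have hNcyc : IsCyclic N := isCyclic_of_prime_card hNcard
  -- the quotient is abelian
  have habel : ∀ a b : G ⧸ C, a * b = b * a := by
    intro a b
    obtain ⟨x, rfl⟩ := QuotientGroup.mk_surjective a
    obtain ⟨y, rfl⟩ := QuotientGroup.mk_surjective b
    suffices hg : ⁅x, y⁆ ∈ C by
      rw [← commutatorElement_eq_one_iff_mul_comm]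
      exact (map_commutatorElement (QuotientGroup.mk' C) x y).symm.trans
        ((QuotientGroup.eq_one_iff _).2 hg)
    set g := ⁅x, y⁆ with hg
    -- action on `N`
    obtain ⟨z, hz⟩ := hNcyc.exists_generator
    have hact : ∀ w : G, ∃ i : ℤ, w * z * w⁻¹ = (z : G) ^ i := fun w => by
      obtain ⟨i, hi⟩ := Subgroup.mem_zpowers_iff.1 (hz ⟨w * z * w⁻¹, hN.conj_mem _ z.2 w⟩)
      exact ⟨i, (congrArg Subtype.val hi).symm.trans (Subgroup.coe_zpow _ _ _)⟩
    have hconjN : ∀ w v : G, (w * v) * z * (w * v)⁻¹ = (v * w) * z * (v * w)⁻¹ := by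
      intro w v
      obtain ⟨i, hi⟩ := hact w
      obtain ⟨j, hj⟩ := hact v
      calc (w * v) * z * (w * v)⁻¹ = MulAut.conj w ((z : G) ^ j) := by
            rw [MulAut.conj_apply, ← hj]; group
        _ = ((z : G) ^ i) ^ j := by rw [map_zpow, MulAut.conj_apply, hi]
        _ = ((z : G) ^ j) ^ i := by rw [← zpow_mul, mul_comm, zpow_mul]
        _ = MulAut.conj v ((z : G) ^ i) := by rw [map_zpow, MulAut.conj_apply, hj]
        _ = (v * w) * z * (v * w)⁻¹ := by rw [MulAut.conj_apply, ← hi]; group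
    have hgz : g * z * g⁻¹ = z := by
      calc g * z * g⁻¹ = (x * y) * ((x⁻¹ * y⁻¹) * z * (x⁻¹ * y⁻¹)⁻¹) * (x * y)⁻¹ := by
            rw [hg, commutatorElement_def]; group
        _ = (x * y) * ((y⁻¹ * x⁻¹) * z * (y⁻¹ * x⁻¹)⁻¹) * (x * y)⁻¹ := by rw [hconjN]
        _ = z := by group
    have hgN : ∀ c ∈ N, g * c * g⁻¹ = c := by
      intro c hc
      obtain ⟨i, hi⟩ := Subgroup.mem_zpowers_iff.1 (hz ⟨c, hc⟩)
      have hc' : c = (z : G) ^ i := (congrArg Subtype.val hi).symm.trans (Subgroup.coe_zpow _ _ _)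
      rw [hc', ← MulAut.conj_apply, map_zpow, MulAut.conj_apply, hgz]
    -- action on `M / N`
    let L : Subgroup (G ⧸ N) := M.map (QuotientGroup.mk' N)
    have hLn : L.Normal := hM.map _ (QuotientGroup.mk'_surjective N)
    have hLcard : Nat.card L = p := by
      have h := Subgroup.relIndex_ker (K := M) (QuotientGroup.mk' N)
      rw [QuotientGroup.ker_mk'] at h
      have h4 : Nat.card N * N.relIndex M = Nat.card M := by
        rw [Subgroup.relIndex, ← Nat.card_congr (Subgroup.subgroupOfEquivOfLe hNM).toEquiv]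
        exact Subgroup.card_mul_index _
      rw [hNcard, hMcard, pow_two, h] at h4
      exact Nat.eq_of_mul_eq_mul_left hp.pos h4
    have hLcyc : IsCyclic L := isCyclic_of_prime_card hLcard
    obtain ⟨z', hz'⟩ := hLcyc.exists_generator
    have hact' : ∀ w : G ⧸ N, ∃ i : ℤ, w * z' * w⁻¹ = (z' : G ⧸ N) ^ i := fun w => by
      obtain ⟨i, hi⟩ := Subgroup.mem_zpowers_iff.1 (hz' ⟨w * z' * w⁻¹, hLn.conj_mem _ z'.2 w⟩)
      exact ⟨i, (congrArg Subtype.val hi).symm.trans (Subgroup.coe_zpow _ _ _)⟩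
    have hconjL : ∀ w v : G ⧸ N, (w * v) * z' * (w * v)⁻¹ = (v * w) * z' * (v * w)⁻¹ := by
      intro w v
      obtain ⟨i, hi⟩ := hact' w
      obtain ⟨j, hj⟩ := hact' v
      calc (w * v) * z' * (w * v)⁻¹ = MulAut.conj w ((z' : G ⧸ N) ^ j) := by
            rw [MulAut.conj_apply, ← hj]; group
        _ = ((z' : G ⧸ N) ^ i) ^ j := by rw [map_zpow, MulAut.conj_apply, hi]
        _ = ((z' : G ⧸ N) ^ j) ^ i := by rw [← zpow_mul, mul_comm, zpow_mul]
        _ = MulAut.conj v ((z' : G ⧸ N) ^ i) := by rw [map_zpow, MulAut.conj_apply, hj]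
        _ = (v * w) * z' * (v * w)⁻¹ := by rw [MulAut.conj_apply, ← hi]; group
    have hgM : ∀ m ∈ M, m⁻¹ * (g * m * g⁻¹) ∈ N := by
      intro m hm
      obtain ⟨i, hi⟩ := Subgroup.mem_zpowers_iff.1 (hz' ⟨_, Subgroup.mem_map_of_mem _ hm⟩)
      have hm' : QuotientGroup.mk' N m = (z' : G ⧸ N) ^ i :=
        (congrArg Subtype.val hi).symm.trans (Subgroup.coe_zpow _ _ _)
      have hgz' : QuotientGroup.mk' N g * z' * (QuotientGroup.mk' N g)⁻¹ = z' := by
        rw [hg, map_commutatorElement]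
        generalize QuotientGroup.mk' N x = a, QuotientGroup.mk' N y = b
        calc ⁅a, b⁆ * z' * ⁅a, b⁆⁻¹
            = (a * b) * ((a⁻¹ * b⁻¹) * z' * (a⁻¹ * b⁻¹)⁻¹) * (a * b)⁻¹ := by
              rw [commutatorElement_def]; group
          _ = (a * b) * ((b⁻¹ * a⁻¹) * z' * (b⁻¹ * a⁻¹)⁻¹) * (a * b)⁻¹ := by rw [hconjL]
          _ = z' := by group
      rw [← QuotientGroup.eq_one_iff, ← QuotientGroup.mk'_apply, map_mul, map_inv, map_mul,
        map_mul, map_inv, hm', ← MulAut.conj_apply, map_zpow, MulAut.conj_apply, hgz',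
        inv_mul_cancel]
    have hgp : g ^ p ∈ C := by
      rw [hCdef, Subgroup.mem_centralizer_iff]
      intro m hm
      obtain ⟨c, hcdef⟩ : ∃ c, c = m⁻¹ * (g * m * g⁻¹) := ⟨_, rfl⟩
      have hc : c ∈ N := hcdef ▸ hgM m hm
      have hiter : ∀ j : ℕ, g ^ j * m * (g ^ j)⁻¹ = m * c ^ j := by
        intro j
        induction j with
        | zero => simp
        | succ j ih =>
          calc g ^ (j + 1) * m * (g ^ (j + 1))⁻¹
              = g * (g ^ j * m * (g ^ j)⁻¹) * g⁻¹ := by rw [pow_succ']; group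
            _ = (g * m * g⁻¹) * (g * c ^ j * g⁻¹) := by rw [ih]; group
            _ = m * c ^ (j + 1) := by
              rw [hgN _ (N.pow_mem hc j), pow_succ', ← mul_assoc, hcdef, mul_inv_cancel_left]
      have hcp : c ^ p = 1 := by
        have := pow_card_eq_one' (x := (⟨c, hc⟩ : N))
        rw [hNcard] at this
        exact congrArg Subtype.val this
      have h := hiter p
      rw [hcp, mul_one, mul_inv_eq_iff_eq_mul] at h
      exact h.symm
    rw [← QuotientGroup.eq_one_iff, ← orderOf_eq_one_iff]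
    have h1 : orderOf (g : G ⧸ C) ∣ p := orderOf_dvd_of_pow_eq_one (by
      rw [← QuotientGroup.mk_pow, QuotientGroup.eq_one_iff]; exact hgp)
    refine ((Nat.dvd_prime hp).1 h1).resolve_right fun h => hpC ?_
    rw [← h, Subgroup.index_eq_card]
    exact orderOf_dvd_natCard _
  have hk : Nat.card (ConjClasses (G ⧸ C)) = C.index := by
    rw [Subgroup.index_eq_card]
    refine (Nat.card_eq_of_bijective ConjClasses.mk ⟨fun a b h => ?_, ConjClasses.mk_surjective⟩).symm
    obtain ⟨c, rfl⟩ := isConj_iff.1 (ConjClasses.mk_eq_mk_iff_isConj.1 h)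
    rw [habel c a, mul_inv_cancel_right]
  have h := H27.Classes.classes_ge M C hMC hcomm
  rw [hk, hMcard] at h
  have h0 : 0 < C.index := Nat.pos_of_ne_zero Subgroup.index_ne_zero_of_finite
  revert h h0 h2
  generalize Nat.card (ConjClasses G) = k, C.index = i
  intro h2 h h0
  by_contra hc
  rw [not_le] at hc
  nlinarith [sq_nonneg ((120 : ℤ) * i - 49 * p), Nat.mul_le_mul h2 h2]

/-- The case of a minimal normal subgroup of order `p ^ n`, `n ≥ 2`. -/
theorem bound_of_irr (hI : H27.Classes.IrrClassBound) [Finite G] (hsolv : Group.IsSolvable G)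
    {p n : ℕ} (hp : p.Prime) (h11 : 11 ≤ p) (hn : 2 ≤ n) (N : Subgroup G) [hN : N.Normal]
    (hN1 : N ≠ ⊥) (hmin : ∀ K : Subgroup G, K.Normal → K ≤ N → K = ⊥ ∨ K = N)
    (hab : ∀ x ∈ N, ∀ y ∈ N, x * y = y * x) (hexp : ∀ x ∈ N, x ^ p = 1)
    (hcard : Nat.card N = p ^ n) : 49 * p ≤ 60 * Nat.card (ConjClasses G) := by
  have := Fact.mk hp
  have hcomm : IsMulCommutative N := ⟨⟨fun a b => Subtype.ext (hab a a.2 b b.2)⟩⟩
  open scoped IsMulCommutative in
  let _ : Module (ZMod p) (Additive N) := AddCommGroup.zmodModule fun x =>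
    congrArg Additive.ofMul (Subtype.ext (hexp x.toMul x.toMul.2) : x.toMul ^ p = 1)
  refine H27.KGV.chief_elim_aux N hN1 hmin (s := p) fun V _ _ _ _ ρ hρ hirr hV => ?_
  let b := Module.finBasis (ZMod p) V
  set d := Module.finrank (ZMod p) V
  let E := Fin d → ZMod p
  let e : V ≃ₗ[ZMod p] E := b.equivFun
  let f : (G ⧸ Subgroup.centralizer (N : Set G)) →* Module.End (ZMod p) E :=
    (e.conjRingEquiv.toMonoidHom).comp ρ
  have hf : Function.Injective f := e.conjRingEquiv.injective.comp hρ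
  have hfapp : ∀ q (v : E), f q v = e (ρ q (e.symm v)) := fun q v => rfl
  let g := f.toHomUnits
  have hg : Function.Injective g := fun a b h => hf (by
    have := congrArg (fun u : (Module.End (ZMod p) E)ˣ => (u : Module.End (ZMod p) E)) h
    simpa [g] using this)
  have : Finite g.range := Finite.of_surjective g.rangeRestrict g.rangeRestrict_surjective
  have hfaith : FaithfulSMul g.range E := ⟨fun {a b} h => Subtype.ext (Units.ext (LinearMap.ext h))⟩
  have hsolv' : Group.IsSolvable g.range := by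
    have : Group.IsSolvable G := hsolv
    exact Group.isSolvable_of_surjective (f := g.rangeRestrict.comp (QuotientGroup.mk' _))
      (g.rangeRestrict_surjective.comp (QuotientGroup.mk'_surjective _))
  have hirr' : H35.OddBase.IsIrr g.range E := by
    refine ⟨?_, fun U hU => ?_⟩
    · exact e.toEquiv.symm.nontrivial
    let W : Submodule (ZMod p) V := (AddSubgroup.toZModSubmodule p U).comap (e : V →ₗ[ZMod p] E)
    have hW : ∀ q, ∀ w ∈ W, ρ q w ∈ W := fun q w hw => by
      have h1 := hU ⟨g q, q, rfl⟩ (e w) hw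
      show e (ρ q w) ∈ U
      have h2 : (⟨g q, q, rfl⟩ : g.range) • (e w : E) = f q (e w) := rfl
      rw [h2, hfapp, LinearEquiv.symm_apply_apply] at h1
      exact h1
    rcases hirr W hW with h | h
    · left
      refine (AddSubgroup.eq_bot_iff_forall _).2 fun x hx => ?_
      have h1 : e.symm x ∈ W := by
        show e (e.symm x) ∈ U
        rwa [LinearEquiv.apply_symm_apply]
      rw [h, Submodule.mem_bot] at h1
      exact e.symm.map_eq_zero_iff.1 h1
    · right
      refine (AddSubgroup.eq_top_iff' _).2 fun x => ?_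
      have h1 : e.symm x ∈ W := h.symm ▸ Submodule.mem_top
      have h2 : e (e.symm x) ∈ U := h1
      rwa [LinearEquiv.apply_symm_apply] at h2
  have hE : Nat.card E = p ^ n := by rw [← Nat.card_congr e.toEquiv, hV, hcard]
  have hH : Nat.card g.range = (Subgroup.centralizer (N : Set G)).index := by
    rw [Subgroup.index_eq_card]
    exact (Nat.card_congr (MonoidHom.ofInjective hg).toEquiv).symm
  refine hI g.range E p n hp h11 hn hsolv' hirr' hE _ ?_
  rw [hH, card_conjClasses_congr (MonoidHom.ofInjective hg), ← hcard]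
  exact H27.Classes.classes_ge N _ (fun x hx => Subgroup.mem_centralizer_iff.2 fun y hy => hab y hy x hx)
    fun c hc y hy => ((Subgroup.mem_centralizer_iff.1 hc) y hy).symm

theorem body_aux (hI : H27.Classes.IrrClassBound) : ∀ (m : ℕ) (G : Type u) [Group G] [Finite G],
    Nat.card G = m → Group.IsSolvable G → ∀ p : ℕ, p.Prime → p ^ 2 ∣ Nat.card G →
    49 * p ≤ 60 * Nat.card (ConjClasses G) := by
  intro m
  induction m using Nat.strong_induction_on with
  | _ m ih =>
  intro G _ _ hm hsolv p hp hdvd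
  rcases le_or_gt p 7 with h7 | h7
  · exact classes_ge_small hp h7 hdvd
  have h11 : 11 ≤ p := by
    by_contra h
    interval_cases p <;> norm_num at hp
  have hG1 : (⊤ : Subgroup G) ≠ ⊥ := fun h => by
    have h1 : Nat.card G = 1 := by rw [← Subgroup.card_top (G := G), h, Subgroup.card_bot]
    rw [h1, Nat.dvd_one] at hdvd
    nlinarith
  have step : ∀ (N : Subgroup G) [N.Normal], N ≠ ⊥ → p ^ 2 ∣ Nat.card (G ⧸ N) →
      49 * p ≤ 60 * Nat.card (ConjClasses G) := by
    intro N _ hN1 hq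
    have hlt : Nat.card (G ⧸ N) < m := by
      rw [← hm, Subgroup.card_eq_card_quotient_mul_card_subgroup N]
      exact lt_mul_of_one_lt_right Nat.card_pos (Finite.one_lt_card_iff_nontrivial.2
        ((Subgroup.nontrivial_iff_ne_bot N).2 hN1))
    have : Group.IsSolvable G := hsolv
    exact (ih _ hlt (G ⧸ N) rfl
      (Group.isSolvable_of_surjective (QuotientGroup.mk'_surjective N)) p hp hq).trans
      (Nat.mul_le_mul_left _ (card_conjClasses_le_of_surjective _ (QuotientGroup.mk'_surjective N)))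
  obtain ⟨N, r, hN, -, hN1, hr, hmin, hab, hexp, n, hn, hcard⟩ :=
    exists_minimal_normal hsolv (⊤ : Subgroup G) hG1
  by_cases hq : p ^ 2 ∣ Nat.card (G ⧸ N)
  · exact step N hN1 hq
  -- every minimal normal subgroup is a `p`-group
  have hrp : ∀ (K : Subgroup G) [K.Normal] (s j : ℕ), K ≠ ⊥ → s.Prime → Nat.card K = s ^ j →
      s ≠ p → 49 * p ≤ 60 * Nat.card (ConjClasses G) := by
    intro K _ s j hK1 hs hKc hsp
    refine step K hK1 ?_
    have h := hdvd
    rw [Subgroup.card_eq_card_quotient_mul_card_subgroup K, hKc] at h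
    exact (Nat.Coprime.pow 2 j ((Nat.coprime_primes hp hs).2 (Ne.symm hsp))).dvd_of_dvd_mul_right h
  by_cases hrp' : r = p
  swap
  · exact hrp N r n hN1 hr hcard hrp'
  subst hrp'
  rcases Nat.lt_or_ge n 2 with hn2 | hn2
  swap
  · exact bound_of_irr hI hsolv hp h11 hn2 N hN1 hmin hab hexp hcard
  obtain rfl : n = 1 := by omega
  rw [pow_one] at hcard
  have h3 : ¬ r ^ 3 ∣ Nat.card G := fun h => hq <| by
    rw [Subgroup.card_eq_card_quotient_mul_card_subgroup N, hcard, pow_succ] at h
    exact Nat.dvd_of_mul_dvd_mul_right hp.pos h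
  have := Fact.mk hp
  -- the centraliser of `N` strictly contains `N`
  set C := Subgroup.centralizer (N : Set G)
  have hNC : N ≤ C := fun x hx => Subgroup.mem_centralizer_iff.2 fun y hy => hab y hy x hx
  let L₀ : Subgroup (G ⧸ N) := C.map (QuotientGroup.mk' N)
  have hL₀ : L₀ ≠ ⊥ := fun h => by
    rw [Subgroup.map_eq_bot_iff, QuotientGroup.ker_mk'] at h
    -- `G / C` has order prime to `r`
    obtain ⟨P, hP⟩ : ∃ P : Subgroup G, Nat.card P = r ^ 2 := Sylow.exists_subgroup_card_pow_prime r hdvd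
    have hPab := IsPGroup.isMulCommutative_of_card_eq_prime_sq (p := r) (G := ↥P) hP
    have hsub : IsPGroup r (P ⊔ N : Subgroup G) :=
      (IsPGroup.of_card hP).to_sup_of_normal_right (IsPGroup.of_card (n := 1) (by rwa [pow_one]))
    obtain ⟨j, hj⟩ := IsPGroup.iff_card.1 hsub
    have hj2 : j ≤ 2 := by
      by_contra hj2
      have h7 : r ^ 3 ∣ Nat.card (P ⊔ N : Subgroup G) := by
        rw [hj]; exact pow_dvd_pow r (by omega)
      exact h3 (h7.trans (Subgroup.card_subgroup_dvd_card _))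
    have hNP : N ≤ P := by
      have h5 : P = P ⊔ N := Subgroup.eq_of_le_of_card_ge le_sup_left (by
        rw [hj, hP]; exact Nat.pow_le_pow_right hp.pos hj2)
      rw [h5]; exact le_sup_right
    have h4 : P ≤ N := le_trans (fun x hx => Subgroup.mem_centralizer_iff.2 fun y hy =>
      congrArg Subtype.val (hPab.is_comm.comm ⟨y, hNP hy⟩ ⟨x, hx⟩)) h
    have h6 := Subgroup.card_le_of_le h4
    rw [hP, hcard] at h6
    nlinarith
  have hsolvQ : Group.IsSolvable (G ⧸ N) :=
    haveI : Group.IsSolvable G := hsolv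
    Group.isSolvable_of_surjective (QuotientGroup.mk'_surjective N)
  have : L₀.Normal := Subgroup.Normal.map inferInstance _ (QuotientGroup.mk'_surjective N)
  obtain ⟨L, s, hL, hLC, hL1, hs, -, hLab, hLexp, j, hj, hLcard⟩ :=
    exists_minimal_normal hsolvQ L₀ hL₀
  let M : Subgroup G := L.comap (QuotientGroup.mk' N)
  have hM : M.Normal := hL.comap _
  have hNM : N ≤ M := fun x hx => by
    show QuotientGroup.mk' N x ∈ L
    rw [QuotientGroup.mk'_apply, (QuotientGroup.eq_one_iff x).2 hx]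
    exact L.one_mem
  have hMC : M ≤ C := fun x hx => by
    obtain ⟨c, hc, hcx⟩ := hLC hx
    rw [QuotientGroup.mk'_apply, QuotientGroup.mk'_apply, QuotientGroup.eq] at hcx
    have := C.mul_mem hc (hNC hcx)
    rwa [mul_inv_cancel_left] at this
  have hMpow : ∀ x ∈ M, x ^ s ∈ N := fun x hx => by
    rw [← QuotientGroup.eq_one_iff, QuotientGroup.mk_pow]
    exact hLexp _ hx
  by_cases hsr : s = r
  · subst hsr
    have hMcard : Nat.card M = s ^ j * s := by
      have h := Subgroup.card_mul_index (N.subgroupOf M)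
      rw [Nat.card_congr (Subgroup.subgroupOfEquivOfLe hNM).toEquiv, hcard] at h
      have h4 : N.relIndex M = Nat.card L := by
        have h5 := Subgroup.relIndex_ker (K := M) (QuotientGroup.mk' N)
        rw [QuotientGroup.ker_mk', Subgroup.map_comap_eq_self_of_surjective
          (QuotientGroup.mk'_surjective N)] at h5
        exact h5
      rw [← h, ← Subgroup.relIndex, h4, hLcard, mul_comm]
    have hj1 : j = 1 := by
      by_contra hj1
      refine h3 ((?_ : s ^ 3 ∣ Nat.card M).trans (Subgroup.card_subgroup_dvd_card M))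
      rw [hMcard, ← pow_succ]
      exact pow_dvd_pow s (by omega)
    refine bound_of_sq hp h3 hp.two_le N M hNM hcard ?_
    rw [hMcard, hj1, pow_one, pow_two]
  -- otherwise there is a normal subgroup of order prime to `r`
  have hcop : Nat.Coprime s r := (Nat.coprime_primes hs hp).2 hsr
  have hcen : ∀ c ∈ N, ∀ x ∈ M, c * x = x * c := fun c hc x hx =>
    (Subgroup.mem_centralizer_iff.1 (hMC hx)) c hc
  have hMab : ∀ x ∈ M, ∀ y ∈ M, x * y = y * x := by
    intro x hx y hy
    have hc : ⁅x, y⁆ ∈ N := by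
      rw [← QuotientGroup.eq_one_iff, ← QuotientGroup.mk'_apply, map_commutatorElement,
        commutatorElement_eq_one_iff_mul_comm]
      by_contra hne
      exact hne (hLab x hx y hy)
    obtain ⟨c, hcdef⟩ : ∃ c, c = ⁅x, y⁆ := ⟨_, rfl⟩
    have hcx : x * y * x⁻¹ = c * y := by rw [hcdef, commutatorElement_def]; group
    have hc' : c ∈ N := hcdef ▸ hc
    have h1 : x * y ^ s * x⁻¹ = c ^ s * y ^ s := by
      rw [← MulAut.conj_apply, map_pow, MulAut.conj_apply, hcx,
        Commute.mul_pow (hcen c hc' y hy)]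
    have h2 : x * y ^ s * x⁻¹ = y ^ s := by
      rw [← hcen _ (hMpow y hy) x hx, mul_inv_cancel_right]
    have h3' : c ^ s = 1 := mul_eq_right.1 (h1.symm.trans h2)
    have h4 : c = 1 := by
      rw [← orderOf_eq_one_iff]
      exact Nat.eq_one_of_dvd_coprimes hcop (orderOf_dvd_of_pow_eq_one h3')
        (orderOf_dvd_of_pow_eq_one (hexp c hc'))
    rw [hcdef] at h4
    exact commutatorElement_eq_one_iff_mul_comm.1 h4
  let R : Subgroup G :=
    { carrier := {x | x ∈ M ∧ x ^ s = 1}
      mul_mem' := fun {a b} ha hb =>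
        ⟨M.mul_mem ha.1 hb.1, by
          rw [Commute.mul_pow (hMab a ha.1 b hb.1), ha.2, hb.2, one_mul]⟩
      one_mem' := ⟨M.one_mem, one_pow s⟩
      inv_mem' := fun {a} ha => ⟨M.inv_mem ha.1, by rw [inv_pow, ha.2, inv_one]⟩ }
  have : R.Normal := ⟨fun x hx g => ⟨hM.conj_mem x hx.1 g, by
    rw [← MulAut.conj_apply, ← map_pow, hx.2, map_one]⟩⟩
  have hR1 : R ≠ ⊥ := by
    obtain ⟨l, hl⟩ := Subgroup.ne_bot_iff_exists_ne_one.1 hL1
    obtain ⟨x, hx⟩ := QuotientGroup.mk'_surjective N (l : G ⧸ N)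
    have hxM : x ∈ M := by show QuotientGroup.mk' N x ∈ L; rw [hx]; exact l.2
    intro h
    have h1 : x ^ r ∈ R := ⟨M.pow_mem hxM r, by
      rw [← pow_mul, mul_comm, pow_mul, hexp _ (hMpow x hxM)]⟩
    rw [h, Subgroup.mem_bot] at h1
    refine hl ?_
    refine Subtype.ext (orderOf_eq_one_iff.1 ?_)
    refine Nat.eq_one_of_dvd_coprimes hcop
      (orderOf_dvd_of_pow_eq_one (hLexp _ l.2)) (orderOf_dvd_of_pow_eq_one ?_)
    rw [← hx, ← map_pow, h1, map_one]
  have hRp : IsPGroup s R := fun x => ⟨1, Subtype.ext (by simpa using x.2.2)⟩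
  have := Fact.mk hs
  obtain ⟨i, hi⟩ := IsPGroup.iff_card.1 hRp
  exact hrp R s i hR1 hs hi hsr

/-- The class number bound, given the irreducible linear case. -/
theorem body_of_irr (hI : H27.Classes.IrrClassBound) {G : Type*} [Group G] [Finite G]
    (hsolv : Group.IsSolvable G) (p : ℕ) [Fact p.Prime] (hp : p ^ 2 ∣ Nat.card G) :
    49 * p ≤ 60 * Nat.card (ConjClasses G) :=
  body_aux hI _ G rfl hsolv p Fact.out hp

end H79.ClassCount
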